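import Groth.Agent.Lib.FFDesc.OpensCover
import Mathlib.AlgebraicGeometry.Morphisms.Finite
import Mathlib.AlgebraicGeometry.Noetherian
import Mathlib.AlgebraicGeometry.Morphisms.QuasiFinite

/-!
Descent data along a finite flat covering of an affine scheme are effective when finite sets lie in affine opens.
-/

set_option autoImplicit false
set_option backward.isDefEq.respectTransparency false

universe u

open CategoryTheory CategoryTheory.Limits AlgebraicGeometry TopologicalSpace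
open Groth.Agent.Lib

namespace Groth.Agent.H60.BalQuot

variable {X S : Scheme.{u}} {p : X ⟶ S}

theorem isQuasiAffine_of_le {V : Scheme.{u}} [IsLocallyNoetherian V] {O O₁ : V.Opens} (hle : O ≤ O₁)
    (h₁ : IsAffineOpen O₁) (hO : IsCompact (O : Set V)) : Scheme.IsQuasiAffine O.toScheme := by
  haveI : IsAffine O₁.toScheme := h₁
  haveI : CompactSpace ↥O.toScheme := isCompact_iff_compactSpace.1 hO
  exact Scheme.IsQuasiAffine.of_isImmersion (V.homOfLE hle)

theorem isCompact_of_le_affine {V : Scheme.{u}} [IsLocallyNoetherian V] {O O₁ : V.Opens} (hle : O ≤ O₁)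
    (h₁ : IsAffineOpen O₁) : IsCompact (O : Set V) := by
  haveI : IsAffine O₁.toScheme := h₁
  haveI : IsLocallyNoetherian O₁.toScheme := isLocallyNoetherian_of_isOpenImmersion O₁.ι
  haveI : CompactSpace ↥O₁.toScheme := inferInstance
  haveI : IsNoetherian O₁.toScheme := ⟨⟩
  have h2 := (NoetherianSpace.isCompact (α := ↥O₁.toScheme) (O₁.ι ⁻¹' (O : Set V))).image O₁.ι.continuous
  rwa [Set.image_preimage_eq_of_subset] at h2
  rw [Scheme.Opens.range_ι]
  exact hle

theorem isQuasiAffine_hom {V : Scheme.{u}} [IsLocallyNoetherian V] [IsAffine X] {O O₁ : V.Opens} (hle : O ≤ O₁)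
    (h₁ : IsAffineOpen O₁) (f : O.toScheme ⟶ X) : Mor2.IsQuasiAffine f := by
  haveI : CompactSpace ↥O.toScheme := isCompact_iff_compactSpace.1 (isCompact_of_le_affine hle h₁)
  refine ⟨HasAffineProperty.iff_of_isAffine.2 ‹CompactSpace ↥O.toScheme›, fun U _ => ?_⟩
  let W : V.Opens := O.ι ''ᵁ (f ⁻¹ᵁ U)
  have hW : W ≤ O₁ := le_trans (O.ι_image_le _) hle
  haveI := isQuasiAffine_of_le hW h₁ (isCompact_of_le_affine hW h₁)
  haveI : CompactSpace ↥(f ⁻¹ᵁ U).toScheme := (O.ι.isoImage (f ⁻¹ᵁ U)).hom.homeomorph.symm.compactSpace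
  exact Scheme.IsQuasiAffine.of_isImmersion (O.ι.isoImage (f ⁻¹ᵁ U)).hom

/-- Effectiveness along a finite flat covering. -/
theorem exists_isDescended_finite [IsFinite p] [Flat p] [Surjective p] [IsAffine X] (D : Desc.SchDD p)
    [IsLocallyNoetherian D.obj.left]
    (hAF : ∀ F : Finset D.obj.left, ∃ U : D.obj.left.Opens, IsAffineOpen U ∧ (↑F : Set D.obj.left) ⊆ U) :
    ∃ (U : Over S) (q : D.obj.left ⟶ U.left), FFDesc.IsDescended D U q := by
  haveI : IsFinite (FFDesc.pr D) := MorphismProperty.pullback_fst _ _ ‹IsFinite p›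
  let G : D.obj.left.Opens → Prop := fun O =>
    FFDesc.Invariant D O ∧ ∃ O₁ : D.obj.left.Opens, IsAffineOpen O₁ ∧ O ≤ O₁
  refine FFDesc.Cover.exists_isDescended_of_cover D G ?_ (fun O h => h.1) ?_ ?_
  · rintro O O' ⟨h, O₁, h₁, hle⟩ ⟨h', -⟩
    exact ⟨h.inf D h', O₁, h₁, le_trans inf_le_left hle⟩
  · intro v
    classical
    have hfin : (FFDesc.pr D ⁻¹' {v}).Finite := (FFDesc.pr D).finite_preimage_singleton v
    obtain ⟨O₁, h₁, hsub⟩ := hAF (hfin.toFinset.image (FFDesc.act D))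
    let C : Set D.obj.left := FFDesc.pr D '' (FFDesc.act D ⁻¹' (O₁ : Set D.obj.left)ᶜ)
    have hC : IsClosed C := (FFDesc.pr D).isClosedMap _
      (O₁.2.isClosed_compl.preimage (FFDesc.act D).continuous)
    let O : D.obj.left.Opens := ⟨Cᶜ, hC.isOpen_compl⟩
    have hmem : ∀ w, w ∈ O ↔ ∀ c, FFDesc.pr D c = w → FFDesc.act D c ∈ O₁ := fun w => by
      show w ∈ Cᶜ ↔ _
      refine ⟨fun h c hc => by_contra fun hn => h ⟨c, hn, hc⟩, fun h ⟨c, hn, hc⟩ => hn (h c hc)⟩
    have hfwd : ∀ c, FFDesc.pr D c ∈ O → FFDesc.act D c ∈ O := fun c hc => by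
      rw [hmem] at hc ⊢
      intro d hd
      obtain ⟨z, hz1, hz2⟩ := Scheme.Pullback.exists_preimage_pullback
        (f := FFDesc.act D) (g := FFDesc.pr D) c d hd.symm
      obtain ⟨e, he1, he2⟩ := FFDesc.range_act_eq D (a := pullback.fst (FFDesc.act D) (FFDesc.pr D))
        (b := pullback.snd _ _) pullback.condition z
      rw [hz1] at he1
      rw [hz2] at he2
      rw [← he2]
      exact hc e he1
    have hinvO : FFDesc.Invariant D O := by
      refine Opens.ext (Set.ext fun c => ⟨hfwd c, fun hc => ?_⟩)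
      have h := hfwd (FFDesc.swap D c) (by rw [← Scheme.Hom.comp_apply, FFDesc.swap_pr]; exact hc)
      rw [← Scheme.Hom.comp_apply, FFDesc.swap_act] at h
      exact h
    have hle : O ≤ O₁ := fun w hw => by
      let Δ : D.obj.left ⟶ FFDesc.V₂ D := pullback.lift (𝟙 _) D.obj.hom (by simp)
      have h1 : Δ ≫ FFDesc.pr D = 𝟙 _ := pullback.lift_fst _ _ _
      have h2 : Δ ≫ FFDesc.act D = 𝟙 _ := FFDesc.tr_self D _ _ (Category.id_comp _)
      have := (hmem w).1 hw (Δ w) (by rw [← Scheme.Hom.comp_apply, h1]; rfl)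
      rw [← Scheme.Hom.comp_apply, h2] at this
      exact this
    refine ⟨O, ⟨hinvO, O₁, h₁, hle⟩, (hmem v).2 fun c hc => hsub ?_⟩
    simp only [Finset.coe_image, Set.Finite.coe_toFinset]
    exact ⟨c, hc, rfl⟩
  · rintro O ⟨hO, O₁, h₁, hle⟩
    obtain ⟨U, q, H, -⟩ := FFDesc.exists_isDescended (FFDesc.subDatum D hO)
      (FFDesc.fpqcCover_of_quasiCompact p) (isQuasiAffine_hom (V := D.obj.left) hle h₁ _)
    exact ⟨U, q, H⟩

end Groth.Agent.H60.BalQuot
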