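import Groth.Agent.H60.BalQuot.Pieces
import Groth.Agent.H60.TorsQuot.Isotrivial
import Groth.Agent.H63.ReducedSubAV
import Groth.Agent.Lib.AlgSpFpqc.DescendSp
import Groth.Agent.H56.GeomDescent
import Groth.Agent.Lib.DescAlg.Descends

/-!
The balanced product of a group and a scheme whose finite subsets lie in affine opens.
-/

set_option autoImplicit false
set_option backward.isDefEq.respectTransparency false

universe u

open CategoryTheory CategoryTheory.Limits MonoidalCategory CartesianMonoidalCategory MonObj AlgebraicGeometry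
open Groth.Agent.Lib TopologicalSpace

namespace Groth.Agent.H60.BalQuot

noncomputable section

variable {k : Type u} [Field k] [IsAlgClosed k]

local notation "𝒮" => Over (Spec (CommRingCat.of k))

/-- A section of a torsor trivialises it. -/
theorem isPullback_of_section {H G Y P : 𝒮} [GrpObj H] (a : AlgGrp.Action H G) (π : G ⟶ Y)
    (hcart : IsPullback a.act (snd H G) π π) (σ : P ⟶ G) (m : P ⟶ Y) (hσ : σ ≫ π = m) :
    IsPullback (fst P H).left (lift (snd P H) (fst P H ≫ σ) ≫ a.act).left m.left π.left := by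
  have h : IsPullback (fst P H) (lift (snd P H) (fst P H ≫ σ) ≫ a.act) m π := by
    subst hσ
    have hw : fst P H ≫ σ ≫ π = (lift (snd P H) (fst P H ≫ σ) ≫ a.act) ≫ π := by
      rw [Category.assoc, hcart.w, lift_snd_assoc, Category.assoc]
    have hl : ∀ {W : 𝒮} (l : W ⟶ P ⊗ H), l ≫ lift (snd P H) (fst P H ≫ σ) ≫ a.act =
        lift (l ≫ snd P H) ((l ≫ fst P H) ≫ σ) ≫ a.act := fun l => by
      rw [comp_lift_assoc, Category.assoc]
    have hex : ∀ c : PullbackCone (σ ≫ π) π, ∃ g, lift g (c.fst ≫ σ) ≫ a.act = c.snd := fun c =>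
      TorsorGeom.exists_act a π hcart _ c.snd (c.fst ≫ σ) (by rw [Category.assoc]; exact c.condition.symm)
    choose g hg using hex
    refine ⟨⟨hw⟩, ⟨PullbackCone.IsLimit.mk hw (fun c => lift c.fst (g c)) (fun c => lift_fst _ _) (fun c => ?_)
      (fun c l h1 h2 => ?_)⟩⟩
    · refine (hl _).trans ?_
      simp only [lift_fst, lift_snd]
      exact hg c
    · ext1
      · rw [h1, lift_fst]
      · rw [lift_snd]
        refine TorsorComp.act_inj a π hcart (x := c.fst ≫ σ) ?_
        rw [hg c, ← h2, hl, h1]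
  exact h.map (Over.forget _)

/-- The torsor of a closed subgroup acting by right translations, locally isotrivial. -/
theorem exists_group_torsor {G H : 𝒮} [GrpObj G] [Smooth G.hom] [QuasiCompact G.hom] [ConnectedSpace G.left]
    [GrpObj H] (j : H ⟶ G) [IsMonHom j] [IsClosedImmersion j.left] [Smooth H.hom] :
    ∃ (Y : 𝒮) (π : G ⟶ Y) (_ : IsPullback ((AlgGrp.Action.invRight G).restrict j).act (snd H G) π π),
      LocallyOfFiniteType Y.hom ∧ QuasiCompact Y.hom ∧ IsSeparated Y.hom ∧ Smooth π.left ∧ Surjective π.left ∧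
      QuasiCompact π.left ∧
      ∀ y : Y.left, ∃ (U : Y.left.Opens) (_ : y ∈ U) (U' : Scheme.{u}) (f : U' ⟶ U.toScheme) (_ : IsFinite f)
        (_ : Etale f) (_ : Surjective f) (s : U' ⟶ G.left), s ≫ π.left = f ≫ U.ι := by
  haveI : IrreducibleSpace G.left := H63.ReducedSubAV.irreducibleSpace_of_connected G
  haveI : Flat H.hom := inferInstance
  haveI : QuasiCompact H.hom := by rw [← Over.w j]; infer_instance
  obtain ⟨Y, p, hsep, hlft, hsurj, hflat, -, hp, -, hqc, hsm, -⟩ := Groth.Agent.S5351.result k H G j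
  haveI := hlft; haveI := hsurj; haveI := hflat; haveI := hsep
  haveI : QuasiCompact Y.hom := hqc inferInstance
  haveI : Smooth Y.hom := hsm inferInstance
  haveI : IsReduced Y.left := GrpSch.isReduced_of_smooth_field Y.hom
  haveI : IsLocallyNoetherian Y.left := LocallyOfFiniteType.isLocallyNoetherian Y.hom
  haveI : QuasiCompact (p.left ≫ Y.hom) := by rw [Over.w]; infer_instance
  haveI : QuasiCompact p.left := QuasiCompact.of_comp p.left Y.hom
  let aL : AlgGrp.Action H G := (NonAbH1.trivialAction G).restrict j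
  have haL : ∀ {W : 𝒮} (h : W ⟶ H) (g : W ⟶ G), lift h g ≫ aL.act = (h ≫ j) * g := fun h g => by
    rw [AlgGrp.Action.lift_restrict_act]; rfl
  have hcartL : IsPullback aL.act (snd H G) p p := by
    rw [show aL.act = (j ▷ G) ≫ μ[G] from AlgGrp.Action.hom_ext_lift₂ fun W h g => by
      rw [haL, lift_whiskerRight_assoc, ← Hom.mul_def]]
    exact hp
  haveI : Smooth p.left := AssocBundle.of_group aL p hcartL @Smooth
    ⟨_, p.left.singleton_mem_fpqcPrecoverage, by rintro _ _ ⟨⟩; exact ⟨𝟙 _, Category.id_comp _⟩⟩ inferInstance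
  let ν : G ⟶ G := (𝟙 G)⁻¹
  have hν : ∀ {W : 𝒮} (g : W ⟶ G), g ≫ ν = g⁻¹ := fun g => by rw [GrpObj.comp_inv, Category.comp_id]
  have hνν : ν ≫ ν = 𝟙 G := by rw [hν, inv_inv]
  haveI : IsIso ν := ⟨ν, hνν, hνν⟩
  haveI : IsIso ν.left := ((Over.forget _).mapIso (asIso ν)).isIso_hom
  let aR : AlgGrp.Action H G := (AlgGrp.Action.invRight G).restrict j
  have haR : ∀ {W : 𝒮} (h : W ⟶ H) (g : W ⟶ G), lift h g ≫ aR.act = g * (h ≫ j)⁻¹ := fun h g => by
    rw [AlgGrp.Action.lift_restrict_act, AlgGrp.Action.lift_invRight_act]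
  haveI : Mono j := Over.mono_of_mono_left _
  have hcartR : IsPullback aR.act (snd H G) (ν ≫ p) (ν ≫ p) := by
    refine TorsorComp.isPullback_of_points _ _ ?_ ?_ ?_
    · refine AlgGrp.Action.hom_ext_lift₂ fun W h g => ?_
      rw [← Category.assoc, haR, lift_snd_assoc, ← Category.assoc, hν, _root_.mul_inv_rev, inv_inv,
        ← haL, Category.assoc, hcartL.w, lift_snd_assoc, ← Category.assoc, hν]
    · intro W x₁ x₂ e
      rw [← Category.assoc, hν, ← Category.assoc, hν] at e
      obtain ⟨h, hh⟩ := TorsorGeom.exists_act aL p hcartL W x₁⁻¹ x₂⁻¹ e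
      rw [haL] at hh
      exact ⟨h, by rw [haR, ← inv_inv x₁, ← hh, _root_.mul_inv_rev, inv_inv]⟩
    · intro W g g' x e
      rw [haR, haR] at e
      exact (cancel_mono j).1 (inv_injective (mul_left_cancel e))
  have e : (ν ≫ p).left = ν.left ≫ p.left := rfl
  refine ⟨Y, ν ≫ p, hcartR, hlft, inferInstance, hsep, ?_, ?_, ?_, fun y => ?_⟩
  · rw [e]; infer_instance
  · rw [e]; infer_instance
  · rw [e]; infer_instance
  obtain ⟨U, hy, U', f, hf, hfe, hfs, s, hs⟩ := TorsQuot.exists_isotrivial_quot j p hp y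
  refine ⟨U, hy, U', f, hf, hfe, hfs, s ≫ ν.left, ?_⟩
  rw [e, Category.assoc, ← Category.assoc ν.left ν.left, show ν.left ≫ ν.left = 𝟙 _ from
    congrArg (fun m => m.left) hνν, Category.id_comp, hs]

theorem exists_balanced {G H X : 𝒮} [GrpObj G] [Smooth G.hom] [QuasiCompact G.hom] [ConnectedSpace G.left]
    [GrpObj H] (j : H ⟶ G) [IsMonHom j] [IsClosedImmersion j.left] [Smooth H.hom]
    [LocallyOfFiniteType X.hom] [QuasiCompact X.hom] [IsSeparated X.hom] [IsReduced X.left]
    (hF : ∀ F : Finset ↥X.left, ∃ U : X.left.Opens, IsAffineOpen U ∧ (↑F : Set ↥X.left) ⊆ (U : Set ↥X.left))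
    (aX : AlgGrp.Action H X) (b : AlgGrp.Action H (G ⊗ X))
    (hb : ∀ (T : 𝒮) (h : T ⟶ H) (g : T ⟶ G) (x : T ⟶ X),
      lift h (lift g x) ≫ b.act = lift (g * (h ≫ j)⁻¹) (lift h x ≫ aX.act)) :
    ∃ (Q : 𝒮) (q : G ⊗ X ⟶ Q) (hinv : GIT.IsInvariant b q),
      (LocallyOfFiniteType Q.hom ∧ QuasiCompact Q.hom ∧ IsSeparated Q.hom ∧ IsReduced Q.left) ∧
      (Function.Surjective q.left.base ∧ IsOpenMap q.left.base ∧
        Function.Surjective (GIT.PsiY b q hinv).base ∧
        ∀ U : Q.left.Opens, Function.Injective (q.left.app U) ∧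
          Set.range (q.left.app U) = {f | GIT.IsInvSection b q U f}) ∧
      (IsIso (GIT.PsiY b q hinv) ∧ Flat q.left) ∧
      ∀ y : ↥Q.left, ∃ (U : Q.left.Opens) (_ : y ∈ U) (U' : Scheme.{u}) (φ : U' ⟶ ↑U)
        (_ : IsFinite φ) (_ : Etale φ) (_ : Surjective φ) (s : Over.mk (φ ≫ U.ι ≫ Q.hom) ⟶ G ⊗ X),
        s.left ≫ q.left = φ ≫ U.ι ∧
        IsPullback (fst (Over.mk (φ ≫ U.ι ≫ Q.hom)) H).left
          (lift (snd (Over.mk (φ ≫ U.ι ≫ Q.hom)) H) (fst (Over.mk (φ ≫ U.ι ≫ Q.hom)) H ≫ s) ≫ b.act).left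
          (φ ≫ U.ι) q.left := by
  obtain ⟨Y, π, hcart, hYl, hYq, hYs, hπsm, hπs, hπq, hiso⟩ := exists_group_torsor j
  haveI := hYl; haveI := hYq; haveI := hYs; haveI := hπsm; haveI := hπs; haveI := hπq
  let a : AlgGrp.Action H G := (AlgGrp.Action.invRight G).restrict j
  obtain ⟨U₀, q₀, hdesc⟩ := exists_isDescended_of_isotrivial a π hcart aX hF hiso
  obtain ⟨Q, q, r, hsq, hqr, hcartb, hlocb⟩ :=
    AssocBundle.bundle_of_descended a π hcart aX (FFDesc.fpqcCover_of_quasiCompact π.left) hdesc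
  have hbact : b.act = (a.prod aX).act := AlgGrp.Action.hom_ext_lift₂ fun T h x => by
    have e : x = lift (x ≫ fst G X) (x ≫ snd G X) := by ext1 <;> simp
    rw [e, hb, AlgGrp.Action.lift_prod_act, AlgGrp.Action.lift_restrict_act, AlgGrp.Action.lift_invRight_act]
  have hcb : IsPullback b.act (snd H (G ⊗ X)) q q := hbact ▸ hcartb
  have sq : IsPullback q.left (fst G X).left r.left π.left := hsq.map (Over.forget _)
  haveI hqfl : Flat q.left := MorphismProperty.of_isPullback sq.flip (inferInstance : Flat π.left)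
  haveI hqs : Surjective q.left := MorphismProperty.of_isPullback sq.flip (inferInstance : Surjective π.left)
  haveI hqlfp : LocallyOfFinitePresentation q.left :=
    MorphismProperty.of_isPullback sq.flip (inferInstance : LocallyOfFinitePresentation π.left)
  have hdes : ∀ (P : MorphismProperty Scheme.{u}) [P.IsStableUnderBaseChange]
      [P.DescendsAlong (@Surjective ⊓ @Flat ⊓ @QuasiCompact)], P X.hom → P r.left := fun P _ _ hP =>
    MorphismProperty.DescendsAlong.of_isPullback (P := P) (Q := @Surjective ⊓ @Flat ⊓ @QuasiCompact)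
      sq.flip ⟨⟨hπs, inferInstanceAs (Flat π.left)⟩, hπq⟩ (GrpSch.fst_left_of G (P := P) hP)
  haveI : IsSeparated r.left := hdes @IsSeparated inferInstance
  haveI : LocallyOfFiniteType r.left := hdes @LocallyOfFiniteType inferInstance
  haveI : QuasiCompact r.left := hdes @QuasiCompact inferInstance
  haveI : IsReduced (G ⊗ X).left := by
    haveI : Smooth (snd G X).left := GrpSch.snd_left_of X (P := @Smooth) inferInstance
    exact AlgSpFpqc.DescendSp.isReduced_of_smooth (snd G X).left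
  have hgeo := TorsorGeom.isGeomQuot b q hcb hlocb
  have hsqb := hcb.map (Over.forget _)
  refine ⟨Q, q, hcb.w, ⟨?_, ?_, ?_, H56.GeomDescent.isReduced_of_flat_surjective q.left⟩,
    ⟨hgeo.surj, q.left.isOpenMap, hgeo.orbit, hgeo.sections⟩, ⟨?_, hqfl⟩, fun y => ?_⟩
  · rw [← Over.w r]; infer_instance
  · rw [← Over.w r]; infer_instance
  · rw [← Over.w r]; infer_instance
  · have e : GIT.PsiY b q hcb.w = hsqb.isoPullback.hom := by
      apply pullback.hom_ext
      · rw [GIT.PsiY, pullback.lift_fst]; exact hsqb.isoPullback_hom_fst.symm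
      · rw [GIT.PsiY, pullback.lift_snd]; exact hsqb.isoPullback_hom_snd.symm
    rw [e]; infer_instance
  obtain ⟨U, hy, U', f, hf, hfe, hfs, s, hs⟩ := hiso (r.left y)
  haveI := hf; haveI := hfe; haveI := hfs
  let W := r.left ⁻¹ᵁ U
  let f' := pullback.fst (r.left ∣_ U) f
  obtain ⟨l, hl, -⟩ := sq.exists_lift (f' ≫ W.ι) (pullback.snd (r.left ∣_ U) f ≫ s) (by
    rw [Category.assoc, Category.assoc, hs, ← pullback.condition_assoc, morphismRestrict_ι])
  let P : 𝒮 := Over.mk (f' ≫ W.ι ≫ Q.hom)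
  let σ : P ⟶ G ⊗ X := Over.homMk l (by
    show l ≫ (G ⊗ X).hom = f' ≫ W.ι ≫ Q.hom
    rw [← Over.w q, reassoc_of% hl])
  exact ⟨W, hy, _, f', MorphismProperty.pullback_fst _ _ hf, MorphismProperty.pullback_fst _ _ hfe,
    MorphismProperty.pullback_fst _ _ hfs, σ, hl,
    isPullback_of_section b q hcb σ (Over.homMk (f' ≫ W.ι) (Category.assoc _ _ _)) (Over.OverMorphism.ext hl)⟩

end

end Groth.Agent.H60.BalQuot
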