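import Groth.Agent.H60.BalQuot.Finite
import Groth.Agent.H60.AssocBundle
import Mathlib.AlgebraicGeometry.Morphisms.Etale

/-!
The descent datum of a balanced product is effective when the group torsor is locally isotrivial.
-/

set_option autoImplicit false
set_option backward.isDefEq.respectTransparency false

universe u

open CategoryTheory CategoryTheory.Limits MonoidalCategory CartesianMonoidalCategory MonObj AlgebraicGeometry
open Groth.Agent.Lib TopologicalSpace

namespace Groth.Agent.H60.BalQuot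

noncomputable section

/-- A descended piece descends the restriction to the preimage open. -/
theorem exists_isDescended_preimage {X S : Scheme.{u}} {p : X ⟶ S} (D : Desc.SchDD p) (U : S.Opens)
    (hO : FFDesc.Invariant D (D.obj.hom ⁻¹ᵁ (p ⁻¹ᵁ U))) {UW : Over U.toScheme}
    {qW : pullback D.obj.hom (pullback.fst p U.ι) ⟶ UW.left} (H : FFDesc.IsDescended (FFDesc.piece D U) UW qW) :
    ∃ (Q : Over S) (q : (D.obj.hom ⁻¹ᵁ (p ⁻¹ᵁ U)).toScheme ⟶ Q.left),
      FFDesc.IsDescended (FFDesc.subDatum D hO) Q q := by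
  let O := D.obj.hom ⁻¹ᵁ (p ⁻¹ᵁ U)
  let m₁ : O.toScheme ⟶ pullback p U.ι := pullback.lift (O.ι ≫ D.obj.hom) (D.obj.hom ∣_ (p ⁻¹ᵁ U) ≫ p ∣_ U)
    (by rw [Category.assoc (D.obj.hom ∣_ (p ⁻¹ᵁ U)), morphismRestrict_ι, morphismRestrict_ι_assoc, Category.assoc])
  let m : O.toScheme ⟶ pullback D.obj.hom (pullback.fst p U.ι) :=
    pullback.lift O.ι m₁ (pullback.lift_fst _ _ _).symm
  have hm : IsIso m := by
    let fi := pullback.fst D.obj.hom (pullback.fst p U.ι)
    have : IsOpenImmersion fi := inferInstance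
    have hle : Set.range fi ⊆ Set.range O.ι := by
      rintro _ ⟨z, rfl⟩
      rw [Scheme.Opens.range_ι]
      show p (D.obj.hom (fi z)) ∈ U
      rw [← Scheme.Hom.comp_apply, ← Scheme.Hom.comp_apply,
        show fi ≫ D.obj.hom ≫ p = pullback.snd _ _ ≫ pullback.snd p U.ι ≫ U.ι by
          rw [pullback.condition_assoc, pullback.condition]]
      simp only [Scheme.Hom.comp_apply]
      exact Subtype.coe_prop _
    refine ⟨IsOpenImmersion.lift O.ι fi hle, ?_, ?_⟩
    · rw [← cancel_mono O.ι, Category.assoc, IsOpenImmersion.lift_fac, pullback.lift_fst, Category.id_comp]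
    · rw [← cancel_mono fi, Category.assoc, pullback.lift_fst, IsOpenImmersion.lift_fac, Category.id_comp]
  refine ⟨Over.mk (UW.hom ≫ U.ι), m ≫ qW, ?_, ?_⟩
  · refine (H.isPullback.paste_horiz (IsPullback.of_hasPullback p U.ι)).of_iso
      (asIso m).symm (Iso.refl _) (Iso.refl _) (Iso.refl _) ?_ ?_ (by simp) (by simp)
    · simp only [Iso.refl_hom, Iso.symm_hom, asIso_inv, Category.comp_id]
      rw [IsIso.eq_inv_comp]
      show m ≫ pullback.snd _ _ ≫ pullback.fst p U.ι = O.ι ≫ D.obj.hom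
      rw [← pullback.condition, pullback.lift_fst_assoc]
    · simp
  · let D' := FFDesc.subDatum D hO
    let v : FFDesc.V₂ D' ⟶ O.toScheme := FFDesc.pr D'
    let x : FFDesc.V₂ D' ⟶ X := FFDesc.pr₁ D'
    have hv : v ≫ (O.ι ≫ D.obj.hom) ≫ p = x ≫ p := pullback.condition
    have hxU : Set.range (x ≫ p) ⊆ Set.range U.ι := by
      rw [← hv, Scheme.Opens.range_ι]
      rintro _ ⟨z, rfl⟩
      simp only [Scheme.Hom.comp_apply]
      exact (v z).2
    let x' : FFDesc.V₂ D' ⟶ pullback p U.ι :=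
      pullback.lift x (IsOpenImmersion.lift U.ι (x ≫ p) hxU) (IsOpenImmersion.lift_fac _ _ _).symm
    have hv' : (v ≫ m) ≫ pullback.snd D.obj.hom (pullback.fst p U.ι) ≫ pullback.snd p U.ι =
        x' ≫ pullback.snd p U.ι := by
      rw [← cancel_mono U.ι]
      simp only [Category.assoc, ← pullback.condition, ← pullback.condition_assoc]
      rw [pullback.lift_fst_assoc, pullback.lift_fst_assoc]
      exact (congrArg (v ≫ ·) (Category.assoc _ _ _).symm).trans hv
    have key := H.tr_comp (D := FFDesc.piece D U) (v ≫ m) x' hv'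
    have e : FFDesc.act D' ≫ m = FFDesc.tr (FFDesc.piece D U) (v ≫ m) x' hv' := by
      rw [← cancel_mono (pullback.fst D.obj.hom (pullback.fst p U.ι)), Category.assoc, pullback.lift_fst]
      refine ((congrArg (· ≫ O.ι) (FFDesc.act_eq_tr D')).trans (FFDesc.subDatum_tr_ι D hO v x hv)).trans ?_
      refine Eq.trans ?_ (congrArg (· ≫ pullback.fst _ _)
        (FFDesc.restrict_tr D (pullback.snd p U.ι) (pullback.fst p U.ι) U.ι pullback.condition.symm (v ≫ m) x' hv')).symm
      rw [pullback.lift_fst]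
      exact FFDesc.tr_congr D _ (by rw [Category.assoc, pullback.lift_fst]) (pullback.lift_fst _ _ _).symm
    rw [← Category.assoc (FFDesc.act D'), e, key]
    exact (Category.assoc _ _ _).symm

variable {k : Type u} [Field k] {H G X Y : Over (Spec (CommRingCat.of k))} [GrpObj H]
  (a : AlgGrp.Action H G) (π : G ⟶ Y) (hcart : IsPullback a.act (snd H G) π π) (b : AlgGrp.Action H X)

/-- Effectiveness over an affine open with a finite étale quasi-section. -/
theorem exists_isDescended_of_section [LocallyOfFiniteType X.hom] [LocallyOfFiniteType Y.hom]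
    (hF : ∀ F : Finset X.left, ∃ U : X.left.Opens, IsAffineOpen U ∧ (↑F : Set X.left) ⊆ U)
    (U : Y.left.Opens) (hU : IsAffineOpen U) {U' : Scheme.{u}} (f : U' ⟶ U.toScheme) [IsFinite f] [Etale f]
    [Surjective f] (s : U' ⟶ G.left) (hs : s ≫ π.left = f ≫ U.ι) :
    ∃ (Q : Over U.toScheme) (q : pullback (AssocBundle.datum a π hcart b).obj.hom (pullback.fst π.left U.ι) ⟶ Q.left),
      FFDesc.IsDescended (FFDesc.piece (AssocBundle.datum a π hcart b) U) Q q := by
  let D := AssocBundle.datum a π hcart b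
  haveI : IsAffine U.toScheme := hU
  haveI : IsAffine U' := isAffine_of_isAffineHom f
  let r : U' ⟶ pullback π.left U.ι := pullback.lift s f hs
  have hr : r ≫ pullback.snd π.left U.ι = f := pullback.lift_snd _ _ _
  let D'' := FFDesc.restrict (FFDesc.piece D U) f r (𝟙 _) ((Category.comp_id _).trans hr.symm)
  let ξ : D''.obj.left ⟶ X.left := pullback.fst _ r ≫ pullback.fst _ _ ≫ (snd G X).left
  have sq : IsPullback ξ (pullback.snd _ r) X.hom (r ≫ pullback.fst π.left U.ι ≫ G.hom) :=
    by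
      have h := ((IsPullback.of_hasPullback (FFDesc.piece D U).obj.hom r).paste_horiz
        (IsPullback.of_hasPullback D.obj.hom (pullback.fst π.left U.ι))).paste_horiz
        (GrpSch.isPullback_left G X).flip
      rw [Category.assoc, Category.assoc] at h
      exact h
  haveI : IsAffineHom (r ≫ pullback.fst π.left U.ι ≫ G.hom) := isAffineHom_of_isAffine _
  haveI : IsAffineHom ξ := MorphismProperty.of_isPullback sq.flip ‹_›
  haveI : LocallyOfFiniteType (r ≫ pullback.fst π.left U.ι ≫ G.hom) := by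
    rw [← Over.w π, pullback.condition_assoc, reassoc_of% hr]
    infer_instance
  haveI : LocallyOfFiniteType ξ := MorphismProperty.of_isPullback sq.flip ‹_›
  haveI : IsLocallyNoetherian X.left := LocallyOfFiniteType.isLocallyNoetherian X.hom
  haveI : IsLocallyNoetherian D''.obj.left := LocallyOfFiniteType.isLocallyNoetherian ξ
  haveI : Flat f := inferInstance
  obtain ⟨Q, q', H'⟩ := exists_isDescended_finite (p := f) D'' (fun F => by
    classical
    obtain ⟨O, hO, hFO⟩ := hF (F.image ξ)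
    exact ⟨ξ ⁻¹ᵁ O, hO.preimage ξ, fun z hz => hFO (Finset.mem_image_of_mem _ hz)⟩)
  obtain ⟨q, hq⟩ := FFDesc.exists_isDescended_of_restrict (D := FFDesc.piece D U) f r hr
    (FFDesc.fpqcCover_of_quasiCompact f) H'
  exact ⟨Q, q, hq⟩

/-- Effectiveness. -/
theorem exists_isDescended_of_isotrivial [LocallyOfFiniteType X.hom] [LocallyOfFiniteType Y.hom]
    [IsSeparated Y.hom] [Flat π.left] [Surjective π.left] [QuasiCompact π.left]
    (hF : ∀ F : Finset X.left, ∃ U : X.left.Opens, IsAffineOpen U ∧ (↑F : Set X.left) ⊆ U)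
    (hiso : ∀ y : Y.left, ∃ (U : Y.left.Opens) (_ : y ∈ U) (U' : Scheme.{u}) (f : U' ⟶ U.toScheme) (_ : IsFinite f)
      (_ : Etale f) (_ : Surjective f) (s : U' ⟶ G.left), s ≫ π.left = f ≫ U.ι) :
    ∃ (Q : Over Y.left) (q : (G ⊗ X).left ⟶ Q.left),
      FFDesc.IsDescended (AssocBundle.datum a π hcart b) Q q := by
  let D := AssocBundle.datum a π hcart b
  let good : Y.left.Opens → Prop := fun U => IsAffineOpen U ∧ ∃ (U' : Scheme.{u}) (f : U' ⟶ U.toScheme)
      (_ : IsFinite f) (_ : Etale f) (_ : Surjective f) (s : U' ⟶ G.left), s ≫ π.left = f ≫ U.ι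
  have hres : ∀ U V : Y.left.Opens, V ≤ U → IsAffineOpen V →
      (∃ (U' : Scheme.{u}) (f : U' ⟶ U.toScheme) (_ : IsFinite f) (_ : Etale f) (_ : Surjective f)
        (s : U' ⟶ G.left), s ≫ π.left = f ≫ U.ι) → good V := by
    rintro U V hle hV ⟨U', f, hf, hfe, hfs, s, hs⟩
    let f' := pullback.fst (Y.left.homOfLE hle) f
    refine ⟨hV, _, f', MorphismProperty.pullback_fst _ _ hf, MorphismProperty.pullback_fst _ _ hfe,
      MorphismProperty.pullback_fst _ _ hfs, pullback.snd _ f ≫ s, ?_⟩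
    rw [Category.assoc, hs, ← pullback.condition_assoc, Scheme.homOfLE_ι]
  have hinv : ∀ U : Y.left.Opens, FFDesc.Invariant D (D.obj.hom ⁻¹ᵁ (π.left ⁻¹ᵁ U)) := fun U => by
    unfold FFDesc.Invariant
    simp only [← Scheme.Hom.comp_preimage]
    congr 1
    rw [pullback.condition, FFDesc.act_hom_assoc]
  let Gd : D.obj.left.Opens → Prop := fun O => ∃ U : Y.left.Opens, good U ∧ O = D.obj.hom ⁻¹ᵁ (π.left ⁻¹ᵁ U)
  refine FFDesc.Cover.exists_isDescended_of_cover D Gd ?_ (fun O ⟨U, _, e⟩ => e ▸ hinv U) ?_ ?_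
  · rintro _ _ ⟨U, hU, rfl⟩ ⟨V, hV, rfl⟩
    haveI : Y.left.IsSeparated := ⟨by
      rw [Subsingleton.elim (terminal.from Y.left) (Y.hom ≫ terminal.from _)]
      infer_instance⟩
    refine ⟨U ⊓ V, hres U (U ⊓ V) inf_le_left (hU.1.inf hV.1) hU.2, ?_⟩
    rw [Scheme.Hom.preimage_inf, Scheme.Hom.preimage_inf]
  · intro v
    obtain ⟨U, hy, hU⟩ := hiso (π.left (D.obj.hom v))
    obtain ⟨V, hV, hyV, hle⟩ := exists_isAffineOpen_mem_and_subset hy
    exact ⟨_, ⟨V, hres U V hle hV hU, rfl⟩, hyV⟩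
  · intro O h
    obtain ⟨U, ⟨hU, U', f, hf, hfe, hfs, s, hs⟩, rfl⟩ := h
    haveI := hf; haveI := hfe; haveI := hfs
    obtain ⟨Q, q, hq⟩ := exists_isDescended_of_section a π hcart b hF U hU f s hs
    exact exists_isDescended_preimage D U (hinv U) hq

end

end Groth.Agent.H60.BalQuot
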